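import Groth.Prelude.Def_GalTw2
import Groth.Prelude.Def_Curv2
import Mathlib.FieldTheory.Galois.Basic
import Mathlib.AlgebraicGeometry.Morphisms.Integral
import Mathlib.AlgebraicGeometry.Morphisms.UniversallyOpen

/-!
# Galois transitivity on the fibres of a base change along a normal extension
-/

set_option autoImplicit false
set_option linter.style.haveILetI false
universe u

open CategoryTheory CategoryTheory.Limits AlgebraicGeometry

namespace GalTwLib

variable {k K : Type u} [Field k] [Field K] [Algebra k K]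
variable {X : Scheme.{u}} (f : X ⟶ Spec (CommRingCat.of k))

local notation "PB" => pullback f (Spec.map (CommRingCat.ofHom (algebraMap k K)))
local notation "P₁" => pullback.fst f (Spec.map (CommRingCat.ofHom (algebraMap k K)))
local notation "P₂" => pullback.snd f (Spec.map (CommRingCat.ofHom (algebraMap k K)))

/-- The automorphism `id × Spec σ`. -/
noncomputable def act (σ : K ≃ₐ[k] K) : PB ⟶ PB :=
  pullback.lift P₁ (P₂ ≫ Spec.map (CommRingCat.ofHom (σ : K →+* K))) (by
    rw [Category.assoc, SGA7.spec_map_algEquiv_comp σ]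
    exact pullback.condition)

@[reassoc (attr := simp)] theorem act_fst (σ : K ≃ₐ[k] K) : act f σ ≫ P₁ = P₁ := pullback.lift_fst _ _ _

@[reassoc (attr := simp)] theorem act_snd (σ : K ≃ₐ[k] K) :
    act f σ ≫ P₂ = P₂ ≫ Spec.map (CommRingCat.ofHom (σ : K →+* K)) := pullback.lift_snd _ _ _

theorem exists_act_apply [Normal k K] {x y : ↥PB} (h : P₁ x = P₁ y) : ∃ σ : K ≃ₐ[k] K, act f σ x = y := by
  obtain ⟨w, hw₁, hw₂⟩ := Scheme.Pullback.exists_preimage_pullback x y h
  let Q := pullback P₁ P₁
  let s : Spec (Q.residueField w) ⟶ Q := Q.fromSpecResidueField w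
  obtain ⟨a, ha⟩ : ∃ φ, Spec.map φ = s ≫ pullback.fst _ _ ≫ P₂ := ⟨_, Spec.map_preimage _⟩
  obtain ⟨b, hb⟩ : ∃ φ, Spec.map φ = s ≫ pullback.snd _ _ ≫ P₂ := ⟨_, Spec.map_preimage _⟩
  have hab : CommRingCat.ofHom (algebraMap k K) ≫ a = CommRingCat.ofHom (algebraMap k K) ≫ b := by
    apply Spec.map_injective
    rw [Spec.map_comp, Spec.map_comp, ha, hb]
    simp only [Category.assoc]
    rw [← pullback.condition (f := f) (g := Spec.map (CommRingCat.ofHom (algebraMap k K))), pullback.condition_assoc]
  let L := Q.residueField w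
  letI algKL : Algebra K L := a.hom.toAlgebra
  letI algkL : Algebra k L := (a.hom.comp (algebraMap k K)).toAlgebra
  haveI : IsScalarTower k K L := IsScalarTower.of_algebraMap_eq fun _ => rfl
  let β : K →ₐ[k] L :=
    { b.hom with commutes' := fun c => (DFunLike.congr_fun (congrArg CommRingCat.Hom.hom hab) c).symm }
  let σ : K ≃ₐ[k] K := AlgEquiv.ofBijective (β.restrictNormal K) (Algebra.IsAlgebraic.algHom_bijective _)
  have hσ : ∀ c, a.hom (σ c) = b.hom c := fun c => AlgHom.restrictNormal_commutes β K c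
  have he : (s ≫ pullback.fst _ _) ≫ act f σ = s ≫ pullback.snd _ _ := by
    apply pullback.hom_ext
    · rw [Category.assoc, act_fst, Category.assoc, Category.assoc, pullback.condition]
    · rw [Category.assoc, act_snd, ← Category.assoc (s ≫ pullback.fst _ _), Category.assoc s, ← ha,
        Category.assoc s, ← hb, ← Spec.map_comp]
      congr 1
      ext c
      exact hσ c
  refine ⟨σ, ?_⟩
  have h1 : s default = w := Q.fromSpecResidueField_apply w _
  rw [← hw₁, ← hw₂, ← h1, ← Scheme.Hom.comp_apply, ← Scheme.Hom.comp_apply, ← Scheme.Hom.comp_apply, ← Category.assoc, he]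

theorem galAct_eq_act (k : Type u) [Field k] (X : Scheme.{u}) [X.Over (Spec (CommRingCat.of k))]
    (K : Type u) [Field K] [Algebra k K] (σ : K ≃ₐ[k] K) :
    Curv2.galAct k X K σ = act (X ↘ Spec (CommRingCat.of k)) σ := by
  apply pullback.hom_ext
  · rw [Curv2.galAct, pullback.lift_fst, act_fst, Category.comp_id]
  · rw [Curv2.galAct, pullback.lift_snd, act_snd]
    rfl

theorem isIntegralHom_fst [Algebra.IsAlgebraic k K] : IsIntegralHom P₁ := by
  haveI : Algebra.IsIntegral k K := Algebra.IsAlgebraic.isIntegral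
  haveI : IsIntegralHom (Spec.map (CommRingCat.ofHom (algebraMap k K))) := by
    rw [IsIntegralHom.SpecMap_iff]
    exact algebraMap_isIntegral_iff.mpr inferInstance
  infer_instance

theorem surjective_fst : Surjective P₁ := by
  haveI : Surjective (Spec.map (CommRingCat.ofHom (algebraMap k K))) := ⟨fun x => ⟨default, Subsingleton.elim _ _⟩⟩
  infer_instance

theorem isOpenMap_fst : IsOpenMap P₁ := by
  haveI : UniversallyOpen (Spec.map (CommRingCat.ofHom (algebraMap k K))) := inferInstance
  haveI : UniversallyOpen P₁ := inferInstance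
  exact (P₁).isOpenMap

theorem isClosedMap_fst [Algebra.IsAlgebraic k K] : IsClosedMap P₁ := by
  haveI := isIntegralHom_fst (K := K) f
  exact (P₁).isClosedMap

theorem preimage_image_of_invariant [Normal k K] {T : Set ↥PB} (h : ∀ σ : K ≃ₐ[k] K, ∀ x ∈ T, act f σ x ∈ T) :
    P₁ ⁻¹' (P₁ '' T) = T := by
  refine Set.Subset.antisymm ?_ (Set.subset_preimage_image _ _)
  rintro y ⟨x, hx, hxy⟩
  obtain ⟨σ, rfl⟩ := exists_act_apply f hxy
  exact h σ x hx

end GalTwLib
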