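import Groth.Agent.GalTwLib.Forms
import Mathlib.CategoryTheory.Monoidal.Cartesian.Grp

/-!
# Forms of group schemes over a Galois extension
-/

set_option autoImplicit false
set_option linter.style.haveILetI false
set_option backward.isDefEq.respectTransparency false
universe u

open CategoryTheory CategoryTheory.Limits MonoidalCategory CartesianMonoidalCategory MonObj GrpObj AlgebraicGeometry
open Opposite
open scoped Obj

noncomputable section

namespace GalTwLib

variable {k K : Type u} [Field k] [Field K] [Algebra k K]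

variable (k K) in
/-- Base change to `K`. -/
abbrev bcF : Over (Spec (CommRingCat.of k)) ⥤ Over (Spec (CommRingCat.of K)) := Over.pullback (ptK k K)

theorem twHom_map {X Y : Over (Spec (CommRingCat.of k))} (σ : K ≃ₐ[k] K) (g : X ⟶ Y) :
    GalTw.twHom σ ((bcF k K).map g) = (bcF k K).map g := by
  have e1 : ((bcF k K).map g).left ≫ pullback.fst Y.hom (ptK k K) = pullback.fst X.hom (ptK k K) ≫ g.left :=
    pullback.lift_fst _ _ _
  have e2 : ((bcF k K).map g).left ≫ pullback.snd Y.hom (ptK k K) = pullback.snd X.hom (ptK k K) :=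
    pullback.lift_snd _ _ _
  have hnat : GalTw.galMap K σ X ≫ ((bcF k K).map g).left = ((bcF k K).map g).left ≫ GalTw.galMap K σ Y := by
    apply pullback.hom_ext
    · rw [Category.assoc, Category.assoc, GalTw.galMap_fst, e1, GalTw.galMap_fst_assoc]
    · rw [Category.assoc, Category.assoc, GalTw.galMap_snd, e2, GalTw.galMap_snd, reassoc_of% e2]
  ext1
  rw [GalTw.twHom_left, reassoc_of% hnat, GalTw.galMap_mul, mul_inv_cancel, GalTw.galMap_one]
  exact Category.comp_id _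

variable [FiniteDimensional k K] [IsGalois k K]

theorem map_injective {X Y : Over (Spec (CommRingCat.of k))} {f g : X ⟶ Y}
    (h : (bcF k K).map f = (bcF k K).map g) : f = g := by
  haveI := epi_fst (K := K) X
  ext1
  have h' := congrArg (fun φ => φ.left ≫ pullback.fst Y.hom (ptK k K)) h
  rw [← cancel_epi (pullback.fst X.hom (ptK k K))]
  simpa using h'

theorem exists_map_eq {X Y : Over (Spec (CommRingCat.of k))} (h : (bcF k K).obj X ⟶ (bcF k K).obj Y)
    (hh : ∀ σ : K ≃ₐ[k] K, GalTw.twHom σ h = h) : ∃ g : X ⟶ Y, (bcF k K).map g = h := by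
  have hnat : ∀ σ : K ≃ₐ[k] K, GalTw.galMap K σ X ≫ h.left = h.left ≫ GalTw.galMap K σ Y := fun σ => by
    conv_rhs => rw [← hh σ, GalTw.twHom_left]
    simp [Category.assoc]
  obtain ⟨g, hg⟩ := exists_desc_bc (h.left ≫ pullback.fst Y.hom (ptK k K)) fun σ => by
    rw [reassoc_of% hnat σ, GalTw.galMap_fst]
  haveI := epi_fst (K := K) X
  refine ⟨Over.homMk g ?_, ?_⟩
  · show g ≫ Y.hom = X.hom
    rw [← cancel_epi (pullback.fst X.hom (ptK k K)), reassoc_of% hg, pullback.condition, pullback.condition,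
      ← Category.assoc]
    exact congrArg (· ≫ ptK k K) (Over.w h)
  · ext1
    apply pullback.hom_ext
    · exact Eq.trans (pullback.lift_fst _ _ _) hg
    · exact (pullback.lift_snd _ _ _).trans (Over.w h).symm

theorem homEquiv_mul {C : Type*} [Category.{u} C] [CartesianMonoidalCategory C] {X : C} {F : Cᵒᵖ ⥤ GrpCat.{u}}
    (R : (F ⋙ forget GrpCat.{u}).RepresentableBy X) {Z : C} (f g : Z ⟶ X) :
    letI := GrpObj.ofRepresentableBy X F R
    @Eq (F.obj (op Z)) (R.homEquiv (f * g)) (@HMul.hMul (F.obj (op Z)) (F.obj (op Z)) _ _ (R.homEquiv f) (R.homEquiv g)) :=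
  letI := GrpObj.ofRepresentableBy X F R
  ((yonedaGrpObjIsoOfRepresentableBy X F R).hom.app (op Z)).hom.map_mul f g

theorem homEquiv_one {C : Type*} [Category.{u} C] [CartesianMonoidalCategory C] {X : C} {F : Cᵒᵖ ⥤ GrpCat.{u}}
    (R : (F ⋙ forget GrpCat.{u}).RepresentableBy X) (Z : C) :
    letI := GrpObj.ofRepresentableBy X F R
    @Eq (F.obj (op Z)) (R.homEquiv (1 : Z ⟶ X)) (1 : F.obj (op Z)) :=
  letI := GrpObj.ofRepresentableBy X F R
  ((yonedaGrpObjIsoOfRepresentableBy X F R).hom.app (op Z)).hom.map_one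

section

variable {G₀ : Over (Spec (CommRingCat.of k))} [GrpObj G₀]

theorem mul_eq {Z : Over (Spec (CommRingCat.of K))} (f g : Z ⟶ (bcF k K).obj G₀) :
    f * g = (lift f g ≫ Functor.LaxMonoidal.μ (bcF k K) G₀ G₀) ≫ (bcF k K).map μ[G₀] := by
  rw [Category.assoc, Hom.mul_def, Functor.obj.μ_def]

theorem twHom_mul' {Z : Over (Spec (CommRingCat.of k))} (σ : K ≃ₐ[k] K)
    (f g : (bcF k K).obj Z ⟶ (bcF k K).obj G₀) :
    GalTw.twHom σ (f * g) = GalTw.twHom σ f * GalTw.twHom σ g := by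
  rw [mul_eq, mul_eq]
  rw [GalTw.twHom_comp, twHom_map]
  congr 1
  have key : ∀ (L L' : (bcF k K).obj Z ⟶ (bcF k K).obj (G₀ ⊗ G₀)),
      L ≫ (bcF k K).map (fst G₀ G₀) = L' ≫ (bcF k K).map (fst G₀ G₀) →
      L ≫ (bcF k K).map (snd G₀ G₀) = L' ≫ (bcF k K).map (snd G₀ G₀) → L = L' := fun L L' h₁ h₂ => by
    rw [← cancel_mono (Functor.OplaxMonoidal.δ (bcF k K) G₀ G₀)]
    apply CartesianMonoidalCategory.hom_ext
    · simpa using h₁
    · simpa using h₂
  apply key
  · rw [← twHom_map (K := K) σ (fst G₀ G₀), ← GalTw.twHom_comp, twHom_map, Category.assoc, Category.assoc,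
      Functor.Monoidal.μ_fst, lift_fst, lift_fst]
  · rw [← twHom_map (K := K) σ (snd G₀ G₀), ← GalTw.twHom_comp, twHom_map, Category.assoc, Category.assoc,
      Functor.Monoidal.μ_snd, lift_snd, lift_snd]

/-- `twHom` as a homomorphism of groups of points. -/
def twPts (σ : K ≃ₐ[k] K) (Z : Over (Spec (CommRingCat.of k))) :
    ((bcF k K).obj Z ⟶ (bcF k K).obj G₀) →* ((bcF k K).obj Z ⟶ (bcF k K).obj G₀) :=
  MonoidHom.mk' (fun f => GalTw.twHom σ f) (twHom_mul' σ)

variable (a : GpH1.OneCocycle (K ≃ₐ[k] K) (Aut (GalTw.bcK K G₀))) (ha : ∀ σ, a σ ∈ GalTw.grpAuts K G₀)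

/-- Twisted-invariant points. -/
def invPts (Z : Over (Spec (CommRingCat.of k))) : Subgroup ((bcF k K).obj Z ⟶ (bcF k K).obj G₀) where
  carrier := {f | ∀ σ, GalTw.twHom σ f ≫ (a σ).hom = f}
  mul_mem' {f g} hf hg σ := by
    haveI : IsMonHom (a σ).hom := ha σ
    rw [twHom_mul', MonObj.mul_comp, hf σ, hg σ]
  one_mem' σ := by
    haveI : IsMonHom (a σ).hom := ha σ
    have := map_one (twPts (G₀ := G₀) σ Z)
    change GalTw.twHom σ 1 = 1 at this
    rw [this, MonObj.one_comp]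
  inv_mem' {f} hf σ := by
    haveI : IsMonHom (a σ).hom := ha σ
    have := map_inv (twPts (G₀ := G₀) σ Z) f
    change GalTw.twHom σ f⁻¹ = (GalTw.twHom σ f)⁻¹ at this
    rw [this, GrpObj.inv_comp, hf σ]

/-- The functor of twisted-invariant points. -/
def ptsFunctor : (Over (Spec (CommRingCat.of k)))ᵒᵖ ⥤ GrpCat.{u} where
  obj Z := GrpCat.of (invPts a ha Z.unop)
  map {Z Z'} u := GrpCat.ofHom <|
    { toFun := fun f => ⟨(bcF k K).map u.unop ≫ f.1, fun σ => by
        rw [GalTw.twHom_comp, twHom_map, Category.assoc, f.2 σ]⟩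
      map_one' := Subtype.ext (MonObj.comp_one _)
      map_mul' := fun f g => Subtype.ext (MonObj.comp_mul _ _ _) }
  map_id Z := by
    refine GrpCat.hom_ext (MonoidHom.ext fun f => Subtype.ext ?_)
    exact (congrArg (· ≫ f.1) ((bcF k K).map_id Z.unop)).trans (Category.id_comp _)
  map_comp u v := by
    refine GrpCat.hom_ext (MonoidHom.ext fun f => Subtype.ext ?_)
    exact (congrArg (· ≫ f.1) ((bcF k K).map_comp v.unop u.unop)).trans (Category.assoc _ _ _)

variable {G : Over (Spec (CommRingCat.of k))} (φ : GalTw.bcK K G ≅ GalTw.bcK K G₀)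
  (hφ : ∀ σ, GalTw.cocycle φ σ = a σ)

include hφ in
theorem map_comp_mem {Z : Over (Spec (CommRingCat.of k))} (g : Z ⟶ G) :
    (bcF k K).map g ≫ φ.hom ∈ invPts a ha Z := fun σ => by
  rw [GalTw.twHom_comp, twHom_map, ← hφ σ, GalTw.cocycle_apply_hom, Category.assoc, GalTw.twIso_inv,
    ← Category.assoc (GalTw.twHom σ φ.hom), ← GalTw.twHom_comp, φ.hom_inv_id, GalTw.twHom_id, Category.id_comp]

/-- A twist represents the twisted-invariant points. -/
def representableBy : (ptsFunctor a ha ⋙ forget GrpCat.{u}).RepresentableBy G where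
  homEquiv {Z} := Equiv.ofBijective (fun g => ⟨(bcF k K).map g ≫ φ.hom, map_comp_mem a ha φ hφ g⟩) (by
    refine ⟨fun g g' h => ?_, fun f => ?_⟩
    · exact map_injective (K := K) ((cancel_mono φ.hom).mp (congrArg Subtype.val h))
    · obtain ⟨g, hg⟩ := exists_map_eq (K := K) (f.1 ≫ φ.inv) fun σ => by
        have h := f.2 σ
        rw [← hφ σ, GalTw.cocycle_apply_hom, ← Category.assoc, ← Iso.eq_comp_inv] at h
        rw [GalTw.twHom_comp]
        exact h
      exact ⟨g, Subtype.ext (by simp [hg])⟩)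
  homEquiv_comp u g := Subtype.ext (by simp [ptsFunctor])

theorem exists_grpObj (ha : ∀ σ, a σ ∈ GalTw.grpAuts K G₀) (hφ : ∀ σ, GalTw.cocycle φ σ = a σ) :
    ∃ _ : GrpObj G, IsMonHom φ.hom := by
  obtain ⟨R, hR⟩ : ∃ R : (ptsFunctor a ha ⋙ forget GrpCat.{u}).RepresentableBy G,
      ∀ {Z} (g : Z ⟶ G), (R.homEquiv g : invPts a ha Z).1 = (bcF k K).map g ≫ φ.hom :=
    ⟨representableBy a ha φ hφ, fun _ => rfl⟩
  letI I : GrpObj G := GrpObj.ofRepresentableBy G _ R
  refine ⟨I, ⟨?_, ?_⟩⟩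
  · have h := congrArg Subtype.val (homEquiv_one R (𝟙_ (Over (Spec (CommRingCat.of k)))))
    rw [hR] at h
    rw [Functor.obj.η_def, Category.assoc, MonObj.one_eq_one (M := G), h]
    rw [MonObj.one_eq_one (M := (bcF k K).obj G₀)]
    exact MonObj.comp_one _
  · have h := congrArg Subtype.val (homEquiv_mul R (fst G G) (snd G G))
    rw [hR] at h
    rw [Functor.obj.μ_def, Category.assoc, MonObj.mul_eq_mul (M := G), h]
    show Functor.LaxMonoidal.μ (bcF k K) G G ≫ ((R.homEquiv (fst G G) : invPts a ha (G ⊗ G)).1 *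
      (R.homEquiv (snd G G) : invPts a ha (G ⊗ G)).1) = _
    rw [hR, hR, MonObj.comp_mul, Functor.Monoidal.μ_fst_assoc, Functor.Monoidal.μ_snd_assoc,
      MonObj.mul_eq_mul (M := (bcF k K).obj G₀), MonObj.comp_mul, tensorHom_fst, tensorHom_snd]

end

/-- Group-scheme forms exist. -/
theorem exists_isGrpTwist {G₀ : Over (Spec (CommRingCat.of k))} [GrpObj G₀] [IsAffine G₀.left]
    [LocallyOfFiniteType G₀.hom] (a : GpH1.OneCocycle (K ≃ₐ[k] K) (Aut (GalTw.bcK K G₀)))
    (ha : ∀ σ : K ≃ₐ[k] K, a σ ∈ GalTw.grpAuts K G₀) :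
    ∃ (G : Over (Spec (CommRingCat.of k))) (_ : GrpObj G),
      IsAffine G.left ∧ LocallyOfFiniteType G.hom ∧ GalTw.IsGrpTwist K G₀ a G := by
  haveI : IsAffineHom (ptK k K) := inferInstanceAs (IsAffineHom (Spec.map _))
  haveI : IsAffineHom (pullback.fst G₀.hom (ptK k K)) := MorphismProperty.pullback_fst (P := @IsAffineHom) _ _ inferInstance
  haveI haff : IsAffine (GalTw.bcK K G₀).left := isAffine_of_isAffineHom (pullback.fst G₀.hom (ptK k K))
  obtain ⟨G, hG, φ, hφ⟩ := exists_isTwist_of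
    (fun Z _ => ⟨⊤, isAffineOpen_top _, fun x _ => trivial⟩) a
  obtain ⟨I, hI⟩ := exists_grpObj a φ ha hφ
  refine ⟨G, I, hG haff, ?_, φ, hI, hφ⟩
  haveI := etale_ptK (k := k) (K := K)
  haveI := surjective_ptK (k := k) (K := K)
  have h1 : LocallyOfFiniteType (pullback.snd G.hom (ptK k K)) := by
    rw [show pullback.snd G.hom (ptK k K) = φ.hom.left ≫ pullback.snd G₀.hom (ptK k K) from (Over.w φ.hom).symm]
    exact MorphismProperty.comp_mem _ _ _ inferInstance (inferInstanceAs (LocallyOfFiniteType (pullback.snd G₀.hom (ptK k K))))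
  exact MorphismProperty.of_pullback_snd_of_descendsAlong (P := @LocallyOfFiniteType)
    (Q := @Surjective ⊓ @Flat ⊓ @QuasiCompact) ⟨⟨inferInstance, inferInstance⟩, inferInstance⟩ h1

/-- Group-scheme forms are classified by cocycles up to group automorphisms. -/
theorem exists_grpIso_iff {G₀ G G' : Over (Spec (CommRingCat.of k))} [GrpObj G₀] [GrpObj G] [GrpObj G']
    (a b : GpH1.OneCocycle (K ≃ₐ[k] K) (Aut (GalTw.bcK K G₀)))
    (hG : GalTw.IsGrpTwist K G₀ a G) (hG' : GalTw.IsGrpTwist K G₀ b G') :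
    (∃ e : G ≅ G', IsMonHom e.hom) ↔
      ∃ c : Aut (GalTw.bcK K G₀), c ∈ GalTw.grpAuts K G₀ ∧
        ∀ σ : K ≃ₐ[k] K, a σ = c⁻¹ * b σ * σ • c := by
  obtain ⟨φ, hφm, hφ⟩ := hG
  obtain ⟨φ', hφm', hφ'⟩ := hG'
  haveI := hφm; haveI := hφm'
  constructor
  · rintro ⟨e, he⟩
    let E : GalTw.bcK K G ≅ GalTw.bcK K G' := (bcF k K).mapIso e
    have hEm : IsMonHom E.hom := inferInstanceAs (IsMonHom ((bcF k K).map e.hom))
    refine ⟨φ.symm ≪≫ E ≪≫ φ', ?_, fun σ => ?_⟩
    · show IsMonHom (φ.inv ≫ E.hom ≫ φ'.hom)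
      haveI := hEm
      infer_instance
    · have hE : GalTw.twIso σ E = E := Iso.ext (twHom_map σ e.hom)
      rw [← hφ, ← hφ']
      change (GalTw.twIso σ φ).symm ≪≫ φ = GalTw.twIso σ (φ.symm ≪≫ E ≪≫ φ') ≪≫
        ((GalTw.twIso σ φ').symm ≪≫ φ') ≪≫ (φ.symm ≪≫ E ≪≫ φ').symm
      rw [GalTw.twIso_trans, GalTw.twIso_trans, hE]
      have : GalTw.twIso σ φ.symm = (GalTw.twIso σ φ).symm := rfl
      rw [this]
      ext1
      simp
  · rintro ⟨c, hc, hab⟩
    haveI : IsMonHom c.hom := hc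
    let Φ : GalTw.bcK K G ≅ GalTw.bcK K G' := φ ≪≫ c ≪≫ φ'.symm
    have hΦ : ∀ σ, GalTw.twIso σ Φ = Φ := fun σ => by
      have h := hab σ
      rw [← hφ, ← hφ'] at h
      change (GalTw.twIso σ φ).symm ≪≫ φ = GalTw.twIso σ c ≪≫ ((GalTw.twIso σ φ').symm ≪≫ φ') ≪≫ c.symm at h
      ext1
      have h' := congrArg Iso.hom h
      simp only [Iso.trans_hom, Iso.symm_hom] at h'
      rw [Iso.inv_comp_eq] at h'
      simp only [Φ, GalTw.twIso_trans, Iso.trans_hom, Iso.symm_hom]
      change _ ≫ _ ≫ (GalTw.twIso σ φ').inv = _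
      rw [h']
      simp only [Category.assoc, Iso.inv_hom_id_assoc, Iso.hom_inv_id, Category.comp_id, GalTw.twIso_hom]
    obtain ⟨g, hg⟩ := exists_map_eq (K := K) Φ.hom fun σ => congrArg Iso.hom (hΦ σ)
    obtain ⟨g', hg'⟩ := exists_map_eq (K := K) Φ.inv fun σ => congrArg Iso.inv (hΦ σ)
    haveI : IsMonHom ((bcF k K).map g) := by
      rw [hg]
      show IsMonHom (φ.hom ≫ c.hom ≫ φ'.inv)
      infer_instance
    refine ⟨⟨g, g', map_injective (K := K) ?_, map_injective (K := K) ?_⟩, ⟨map_injective (K := K) ?_, map_injective (K := K) ?_⟩⟩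
    · rw [Functor.map_comp, hg, hg', Φ.hom_inv_id, CategoryTheory.Functor.map_id]
    · rw [Functor.map_comp, hg, hg', Φ.inv_hom_id, CategoryTheory.Functor.map_id]
    · have h := IsMonHom.one_hom ((bcF k K).map g)
      rw [Functor.obj.η_def, Functor.obj.η_def, Category.assoc, cancel_epi, ← Functor.map_comp] at h
      exact h
    · have h := IsMonHom.mul_hom ((bcF k K).map g)
      rw [Functor.obj.μ_def, Functor.obj.μ_def, Category.assoc, Functor.LaxMonoidal.μ_natural_assoc, cancel_epi,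
        ← Functor.map_comp, ← Functor.map_comp] at h
      exact h

end GalTwLib
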