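import Groth.Prelude.Def_GalTw2
import Mathlib.FieldTheory.Galois.Basic
import Mathlib.RingTheory.Etale.Field
import Mathlib.AlgebraicGeometry.Morphisms.Etale
import Mathlib.AlgebraicGeometry.Morphisms.FlatMono
import Mathlib.AlgebraicGeometry.Morphisms.Finite

/-!
# Semilinear actions of a finite Galois group on schemes over the extension

For a scheme `U` over `Spec K` with an action of `Gal(K/k)` compatible with the action on `Spec K`, the scheme
`R = U ×_k Spec K` is covered by the disjoint open images of the sections `u ↦ (u, σ q u)`, and carries the target map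
`(u, σ q u) ↦ σ u`.
-/

set_option autoImplicit false
set_option linter.style.haveILetI false
universe u

open CategoryTheory CategoryTheory.Limits AlgebraicGeometry

noncomputable section

namespace GalTwLib

variable (k K : Type u) [Field k] [Field K] [Algebra k K]

/-- `Spec K ⟶ Spec k`. -/
abbrev ptK : Spec (CommRingCat.of K) ⟶ Spec (CommRingCat.of k) := (SGA7.pt (K := k) K).hom

variable {k K}

theorem etale_ptK [FiniteDimensional k K] [IsGalois k K] : Etale (ptK k K) := by
  haveI : Algebra.FormallyEtale k K := Algebra.FormallyEtale.of_isSeparable k K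
  haveI : Algebra.FinitePresentation k K := Algebra.FinitePresentation.of_finiteType.mp inferInstance
  haveI : Algebra.Etale k K := ⟨inferInstance, inferInstance⟩
  exact HasRingHomProperty.Spec_iff.mpr (RingHom.etale_algebraMap.mpr inferInstance)

theorem isFinite_ptK [FiniteDimensional k K] : IsFinite (ptK k K) :=
  (IsFinite.SpecMap_iff (CommRingCat.ofHom (algebraMap k K))).mpr (RingHom.finite_algebraMap.mpr inferInstance)

theorem surjective_ptK : Surjective (ptK k K) :=
  ⟨fun x => ⟨default, Subsingleton.elim _ _⟩⟩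

/-- Galois automorphisms act freely on the points of `Spec K` in a non-empty scheme. -/
theorem eq_of_comp_specMap {T : Scheme.{u}} (z : T ⟶ Spec (CommRingCat.of K)) (x : T) {σ τ : K ≃ₐ[k] K}
    (h : z ≫ GalTw.specMap K σ = z ≫ GalTw.specMap K τ) : σ = τ := by
  have h2 := congrArg (fun f => T.fromSpecResidueField x ≫ f) h
  simp only [← Category.assoc] at h2
  obtain ⟨φ, hφ⟩ : ∃ φ, Spec.map φ = T.fromSpecResidueField x ≫ z := ⟨_, Spec.map_preimage _⟩
  rw [← hφ, ← Spec.map_comp, ← Spec.map_comp] at h2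
  have h3 := congrArg (fun f => f.hom) (Spec.map_injective h2)
  ext y
  exact φ.hom.injective (DFunLike.congr_fun h3 y)

variable (k K) in
/-- A semilinear action of the Galois group on a scheme over `Spec K`. -/
structure Act where
  /-- the scheme -/
  U : Scheme.{u}
  /-- the structure map -/
  q : U ⟶ Spec (CommRingCat.of K)
  /-- the action -/
  ψ : (K ≃ₐ[k] K) → (U ⟶ U)
  ψ_one : ψ 1 = 𝟙 U
  ψ_mul : ∀ σ τ, ψ σ ≫ ψ τ = ψ (σ * τ)
  ψ_q : ∀ σ, ψ σ ≫ q = q ≫ GalTw.specMap K σ

namespace Act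

variable (D : Act k K)

attribute [reassoc] Act.ψ_mul Act.ψ_q

/-- The structure map to `Spec k`. -/
abbrev pU : D.U ⟶ Spec (CommRingCat.of k) := D.q ≫ ptK k K

/-- `U ×_k Spec K`. -/
abbrev R : Scheme.{u} := pullback D.pU (ptK k K)

/-- The source. -/
abbrev s : D.R ⟶ D.U := pullback.fst _ _

/-- The second projection. -/
abbrev z : D.R ⟶ Spec (CommRingCat.of K) := pullback.snd _ _

/-- The section of `σ`. -/
def sec (σ : K ≃ₐ[k] K) : D.U ⟶ D.R :=
  pullback.lift (𝟙 _) (D.q ≫ GalTw.specMap K σ) (by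
    rw [Category.id_comp, Category.assoc]
    exact congrArg (D.q ≫ ·) (GalTw.specMap_comp_pt σ).symm)

@[reassoc (attr := simp)] theorem sec_s (σ : K ≃ₐ[k] K) : D.sec σ ≫ D.s = 𝟙 _ := pullback.lift_fst _ _ _

@[reassoc (attr := simp)] theorem sec_z (σ : K ≃ₐ[k] K) : D.sec σ ≫ D.z = D.q ≫ GalTw.specMap K σ :=
  pullback.lift_snd _ _ _

variable [FiniteDimensional k K] [IsGalois k K]

theorem etale_s : Etale D.s := by
  haveI := etale_ptK (k := k) (K := K)
  infer_instance

theorem isFinite_s : IsFinite D.s := by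
  haveI := isFinite_ptK (k := k) (K := K)
  infer_instance

theorem isOpenImmersion_sec (σ : K ≃ₐ[k] K) : IsOpenImmersion (D.sec σ) := by
  haveI := D.etale_s
  haveI : Etale (D.sec σ ≫ D.s) := by rw [sec_s]; infer_instance
  haveI : Etale (D.sec σ) := Etale.of_comp (D.sec σ) D.s
  haveI : Mono (D.sec σ) := ⟨fun a b h => by simpa using congrArg (· ≫ D.s) h⟩
  exact IsOpenImmersion.of_flat_of_mono (D.sec σ)

theorem exists_sec_apply (r : D.R) : ∃ (σ : K ≃ₐ[k] K) (u : D.U), D.sec σ u = r := by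
  obtain ⟨a, ha⟩ : ∃ φ, Spec.map φ = D.R.fromSpecResidueField r ≫ D.s ≫ D.q := ⟨_, Spec.map_preimage _⟩
  obtain ⟨b, hb⟩ : ∃ φ, Spec.map φ = D.R.fromSpecResidueField r ≫ D.z := ⟨_, Spec.map_preimage _⟩
  have hab : CommRingCat.ofHom (algebraMap k K) ≫ a = CommRingCat.ofHom (algebraMap k K) ≫ b := by
    apply Spec.map_injective
    rw [Spec.map_comp, Spec.map_comp, ha, hb, Category.assoc, Category.assoc, Category.assoc]
    exact congrArg (D.R.fromSpecResidueField r ≫ ·) pullback.condition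
  let L := D.R.residueField r
  letI algKL : Algebra K L := a.hom.toAlgebra
  letI algkL : Algebra k L := (a.hom.comp (algebraMap k K)).toAlgebra
  haveI : IsScalarTower k K L := IsScalarTower.of_algebraMap_eq fun _ => rfl
  let β : K →ₐ[k] L :=
    { b.hom with commutes' := fun c => (DFunLike.congr_fun (congrArg CommRingCat.Hom.hom hab) c).symm }
  let χ : K →ₐ[k] K := β.restrictNormal K
  have hχ : ∀ x, a.hom (χ x) = b.hom x := fun x => AlgHom.restrictNormal_commutes β K x
  let σ : K ≃ₐ[k] K := AlgEquiv.ofBijective χ (Algebra.IsAlgebraic.algHom_bijective χ)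
  have hz : D.R.fromSpecResidueField r ≫ D.z = D.R.fromSpecResidueField r ≫ D.s ≫ D.q ≫ GalTw.specMap K σ := by
    rw [← Category.assoc D.s, ← Category.assoc (D.R.fromSpecResidueField r), ← ha, ← hb, ← Spec.map_comp]
    congr 1
    ext x
    exact (hχ x).symm
  have he : D.R.fromSpecResidueField r = (D.R.fromSpecResidueField r ≫ D.s) ≫ D.sec σ := by
    apply pullback.hom_ext
    · rw [Category.assoc, sec_s, Category.comp_id]
    · rw [Category.assoc, sec_z]
      exact hz
  refine ⟨σ, (D.R.fromSpecResidueField r ≫ D.s) default, ?_⟩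
  rw [← Scheme.Hom.comp_apply, ← he, Scheme.fromSpecResidueField_apply]

/-- The cover of `R` by the sections. -/
def cover : D.R.OpenCover where
  I₀ := K ≃ₐ[k] K
  X _ := D.U
  f := D.sec
  mem₀ := by
    rw [Scheme.presieve₀_mem_precoverage_iff]
    exact ⟨fun r => D.exists_sec_apply r, D.isOpenImmersion_sec⟩

theorem compat (σ τ : K ≃ₐ[k] K) :
    pullback.fst (D.sec σ) (D.sec τ) ≫ D.ψ σ = pullback.snd _ _ ≫ D.ψ τ := by
  have h : pullback.fst (D.sec σ) (D.sec τ) = pullback.snd (D.sec σ) (D.sec τ) := by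
    simpa using congrArg (· ≫ D.s) (pullback.condition (f := D.sec σ) (g := D.sec τ))
  by_cases hne : Nonempty ↥(pullback (D.sec σ) (D.sec τ))
  · obtain ⟨x⟩ := hne
    have h2 := congrArg (· ≫ D.z) (pullback.condition (f := D.sec σ) (g := D.sec τ))
    simp only [Category.assoc, sec_z] at h2
    rw [h, ← Category.assoc, ← Category.assoc] at h2
    rw [h, eq_of_comp_specMap _ x h2]
  · haveI := not_nonempty_iff.mp hne
    exact (isInitialOfIsEmpty (X := pullback (D.sec σ) (D.sec τ))).hom_ext _ _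

/-- The target. -/
def t : D.R ⟶ D.U := D.cover.glueMorphisms D.ψ D.compat

@[reassoc (attr := simp)] theorem sec_t (σ : K ≃ₐ[k] K) : D.sec σ ≫ D.t = D.ψ σ :=
  D.cover.ι_glueMorphisms D.ψ D.compat σ

theorem hom_ext {Z : Scheme.{u}} {f g : D.R ⟶ Z} (h : ∀ σ, D.sec σ ≫ f = D.sec σ ≫ g) : f = g :=
  Scheme.Cover.hom_ext D.cover f g h

@[reassoc (attr := simp)] theorem t_q : D.t ≫ D.q = D.z :=
  D.hom_ext fun σ => by rw [sec_t_assoc, ψ_q, sec_z]

theorem t_pU : D.t ≫ D.pU = D.s ≫ D.pU := by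
  rw [pU, t_q_assoc]
  exact pullback.condition.symm

theorem jointly_mono {T : Scheme.{u}} {α β : T ⟶ D.R} (h₁ : α ≫ D.s = β ≫ D.s) (h₂ : α ≫ D.t = β ≫ D.t) :
    α = β :=
  pullback.hom_ext h₁ (show α ≫ D.z = β ≫ D.z by rw [← D.t_q, ← Category.assoc, h₂, Category.assoc])

/-- Locally every point of `R` lies in one of the sections. -/
theorem hom_ext_of {T Z : Scheme.{u}} (α : T ⟶ D.R) {f g : T ⟶ Z}
    (h : ∀ {W : Scheme.{u}} (w : W ⟶ T) (σ : K ≃ₐ[k] K) (a : W ⟶ D.U), w ≫ α = a ≫ D.sec σ → w ≫ f = w ≫ g) :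
    f = g :=
  Scheme.Cover.hom_ext (D.cover.pullback₁ α) f g fun σ =>
    h (pullback.fst α (D.sec σ)) σ (pullback.snd _ _) pullback.condition

/-- An invariant morphism takes the same value at source and target. -/
theorem s_comp_eq {Z : Scheme.{u}} (h : D.U ⟶ Z) (hh : ∀ σ, D.ψ σ ≫ h = h) : D.s ≫ h = D.t ≫ h :=
  D.hom_ext fun σ => by rw [sec_s_assoc, sec_t_assoc, hh]

end Act

end GalTwLib
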