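import Groth.Agent.GalTwLib.Points
import Groth.Agent.GeomIrrLib.Conn

/-!
# Galois-stable components and geometric irreducibility / connectedness
-/

set_option autoImplicit false
set_option linter.style.haveILetI false
universe u

open CategoryTheory CategoryTheory.Limits AlgebraicGeometry Topology ConnBC

noncomputable section

namespace GalTwLib

variable {k : Type u} [Field k] {X : Scheme.{u}} (f : X ⟶ Spec (CommRingCat.of k))

theorem exists_subscheme (T : Set X) (hT : IsClosed T) :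
    ∃ (W : Scheme.{u}) (ι : W ⟶ X), IsClosedImmersion ι ∧ Set.range ι = T :=
  ⟨_, (Scheme.IdealSheafData.vanishingIdeal ⟨T, hT⟩).subschemeι, inferInstance, by
    rw [Scheme.IdealSheafData.range_subschemeι]
    simp [Scheme.IdealSheafData.coe_support_vanishingIdeal, hT.closure_eq]⟩

theorem exists_homeo_preimage {W : Scheme.{u}} (ι : W ⟶ X) [IsClosedImmersion ι] (K : Type u) [Field K]
    [Algebra k K] :
    ∃ j : ↥(BC (ι ≫ f) K) → ↥(BC f K), IsEmbedding j ∧ Set.range j = (pr f K) ⁻¹' Set.range ι := by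
  let i : BC (ι ≫ f) K ⟶ BC f K :=
    pullback.lift (pr (ι ≫ f) K ≫ ι) (pullback.snd _ _) (by rw [Category.assoc]; exact pullback.condition)
  have sq : IsPullback i (pr (ι ≫ f) K) (pr f K) ι := by
    refine IsPullback.of_right (t := (IsPullback.of_hasPullback f
      (Spec.map (CommRingCat.ofHom (algebraMap k K)))).flip) ?_ (pullback.lift_fst _ _ _)
    rw [show i ≫ pullback.snd _ _ = pullback.snd _ _ from pullback.lift_snd _ _ _]
    exact (IsPullback.of_hasPullback _ _).flip
  haveI : IsClosedImmersion i := MorphismProperty.of_isPullback sq.flip inferInstance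
  refine ⟨i, i.isClosedEmbedding.isEmbedding, Set.Subset.antisymm ?_ fun y hy => ?_⟩
  · rintro _ ⟨z, rfl⟩
    exact ⟨pr (ι ≫ f) K z, by rw [← Scheme.Hom.comp_apply, ← Scheme.Hom.comp_apply, sq.w]⟩
  · obtain ⟨a, ha⟩ := hy
    obtain ⟨z, hz, -⟩ := Scheme.exists_preimage_of_isPullback sq y a ha.symm
    exact ⟨z, hz⟩

theorem isConnected_preimage (T : Set X) (hT : IsClosed T)
    (h : _root_.IsConnected ((pr f (SeparableClosure k)) ⁻¹' T)) (K : Type u) [Field K] [Algebra k K] :
    _root_.IsConnected ((pr f K) ⁻¹' T) := by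
  obtain ⟨W, ι, hι, rfl⟩ := exists_subscheme T hT
  haveI := hι
  obtain ⟨j₀, hj₀, hr₀⟩ := exists_homeo_preimage f ι (SeparableClosure k)
  obtain ⟨j, hj, hr⟩ := exists_homeo_preimage f ι K
  haveI : ConnectedSpace ↥(BC (ι ≫ f) (SeparableClosure k)) := by
    rw [connectedSpace_iff_univ, _root_.IsConnected]
    rw [← hr₀] at h
    refine ⟨⟨h.1.some_mem.choose, trivial⟩, ?_⟩
    have := hj₀.isInducing.isPreconnected_image (s := Set.univ)
    rw [Set.image_univ] at this
    exact this.mp h.2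
  haveI := GeomIrrLib.gc_of_connected_sepClosure (ι ≫ f)
  haveI := GeomIrrLib.connectedSpace_bc (ι ≫ f) K
  rw [← hr, ← Set.image_univ]
  exact isConnected_univ.image j hj.continuous.continuousOn

theorem isIrreducible_preimage (T : Set X) (hT : IsClosed T)
    (h : IsIrreducible ((pr f (SeparableClosure k)) ⁻¹' T)) (K : Type u) [Field K] [Algebra k K] :
    IsIrreducible ((pr f K) ⁻¹' T) := by
  obtain ⟨W, ι, hι, rfl⟩ := exists_subscheme T hT
  haveI := hι
  obtain ⟨j₀, hj₀, hr₀⟩ := exists_homeo_preimage f ι (SeparableClosure k)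
  obtain ⟨j, hj, hr⟩ := exists_homeo_preimage f ι K
  haveI : IrreducibleSpace ↥(BC (ι ≫ f) (SeparableClosure k)) := by
    rw [← hr₀] at h
    refine (irreducibleSpace_def _).mpr ⟨⟨h.1.some_mem.choose, trivial⟩, fun u v hu hv hu' hv' => ?_⟩
    obtain ⟨U, hU, rfl⟩ := hj₀.isInducing.isOpen_iff.mp hu
    obtain ⟨V, hV, rfl⟩ := hj₀.isInducing.isOpen_iff.mp hv
    obtain ⟨x, -, hx⟩ := hu'
    obtain ⟨y, -, hy⟩ := hv'
    obtain ⟨_, ⟨z, rfl⟩, hz⟩ := h.2 U V hU hV ⟨_, ⟨x, rfl⟩, hx⟩ ⟨_, ⟨y, rfl⟩, hy⟩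
    exact ⟨z, trivial, hz⟩
  haveI := GeomIrrLib.gi_of_irreducible_sepClosure (ι ≫ f)
  haveI := GeomIrrLib.irreducibleSpace_bc (ι ≫ f) K
  rw [← hr, ← Set.image_univ]
  exact (IrreducibleSpace.isIrreducible_univ _).image j hj.continuous.continuousOn

theorem image_act_subset_of_preimage {K : Type u} [Field K] [Algebra k K] {S : Set X}
    (σ : K ≃ₐ[k] K) : act f σ '' ((pr f K) ⁻¹' S) = (pr f K) ⁻¹' S := by
  have h : ∀ τ : K ≃ₐ[k] K, ∀ x, pr f K (act f τ x) = pr f K x := fun τ x => by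
    rw [← Scheme.Hom.comp_apply, act_fst]
  refine Set.Subset.antisymm ?_ fun y hy => ⟨act f σ⁻¹ y, ?_, ?_⟩
  · rintro _ ⟨x, hx, rfl⟩
    show pr f K (act f σ x) ∈ S
    rw [h]
    exact hx
  · show pr f K (act f σ⁻¹ y) ∈ S
    rw [h]
    exact hy
  · have e : act f σ⁻¹ ≫ act f σ = 𝟙 _ := by
      apply pullback.hom_ext
      · simp
      · rw [Category.assoc, act_snd, act_snd_assoc, Category.id_comp]
        have := GalTw.specMap_mul K σ⁻¹ σ
        rw [inv_mul_cancel, GalTw.specMap_one] at this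
        change _ ≫ GalTw.specMap K σ⁻¹ ≫ GalTw.specMap K σ = _
        rw [← this, Category.comp_id]
    rw [← Scheme.Hom.comp_apply, e]
    rfl

theorem exists_generalization {K : Type u} [Field K] [Algebra k K] (y : ↥(BC f K)) {η : X}
    (h : η ⤳ pr f K y) : ∃ y', y' ⤳ y ∧ pr f K y' = η := by
  haveI : Flat (Spec.map (CommRingCat.ofHom (algebraMap k K))) := by
    rw [HasRingHomProperty.Spec_iff (P := @Flat)]
    exact RingHom.flat_algebraMap_iff.mpr inferInstance
  exact Flat.generalizingMap (pr f K) h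

end GalTwLib
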