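import Groth.Agent.GalTwLib.Quot
import Groth.Prelude.Def_RelProj
import Groth.Agent.AmpleThLib.FiniteSet

/-!
# Forms of schemes over a Galois extension
-/

set_option autoImplicit false
set_option linter.style.haveILetI false
universe u

open CategoryTheory CategoryTheory.Limits AlgebraicGeometry

noncomputable section

namespace GalTwLib

variable {k K : Type u} [Field k] [Field K] [Algebra k K]

/-- The tautological action on a base change. -/
@[reducible] def galAct (X : Over (Spec (CommRingCat.of k))) : Act k K where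
  U := (GalTw.bcK K X).left
  q := pullback.snd X.hom (ptK k K)
  ψ σ := GalTw.galMap K σ X
  ψ_one := GalTw.galMap_one K X
  ψ_mul σ τ := GalTw.galMap_mul K σ τ X
  ψ_q σ := GalTw.galMap_snd K σ X

/-- The action twisted by a cocycle. -/
@[reducible] def twAct {X : Over (Spec (CommRingCat.of k))}
    (a : GpH1.OneCocycle (K ≃ₐ[k] K) (Aut (GalTw.bcK K X))) : Act k K where
  U := (GalTw.bcK K X).left
  q := pullback.snd X.hom (ptK k K)
  ψ σ := (a σ).inv.left ≫ GalTw.galMap K σ X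
  ψ_one := by
    rw [GalTw.oneCocycle_one, GalTw.galMap_one, Category.comp_id]
    rfl
  ψ_mul σ τ := by
    have h := congrArg (fun f : Aut (GalTw.bcK K X) => f.inv.left) (a.2 σ τ)
    change (a (σ * τ)).inv.left =
      (a σ).inv.left ≫ GalTw.galMap K σ X ≫ (a τ).inv.left ≫ GalTw.galMap K σ⁻¹ X at h
    simp only [h, Category.assoc, GalTw.galMap_mul, inv_mul_cancel_left]
  ψ_q σ := by
    rw [Category.assoc, GalTw.galMap_snd, ← Category.assoc]
    exact congrArg (· ≫ GalTw.specMap K σ) (Over.w (a σ).inv)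

theorem exists_affine_of_isQuasiProjective {X : Over (Spec (CommRingCat.of k))}
    (hX : RelProj.IsQuasiProjective X.hom) (Z : Set (GalTw.bcK K X).left) (hZ : Z.Finite) :
    ∃ V : (GalTw.bcK K X).left.Opens, IsAffineOpen V ∧ Z ⊆ V := by
  classical
  obtain ⟨-, -, L, hL⟩ := hX
  have hA := hL.2 ⟨⊤, isAffineOpen_top _⟩
  let W := X.hom ⁻¹ᵁ ⊤
  let p := pullback.fst X.hom (ptK k K)
  let w : (GalTw.bcK K X).left → W.toScheme := fun x => ⟨p x, trivial⟩
  obtain ⟨V, hV, hZV⟩ := AmpleThLib.exists_affineOpen_finset hA (hZ.toFinset.image w)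
  have hV' : IsAffineOpen (W.ι ''ᵁ V) := hV.image_of_isOpenImmersion W.ι
  haveI : IsAffineHom (ptK k K) := inferInstanceAs (IsAffineHom (Spec.map _))
  haveI : IsAffineHom p := MorphismProperty.pullback_fst (P := @IsAffineHom) _ _ inferInstance
  refine ⟨p ⁻¹ᵁ (W.ι ''ᵁ V), hV'.preimage p, fun x hx => ?_⟩
  exact ⟨w x, hZV _ (Finset.mem_image_of_mem w (hZ.mem_toFinset.mpr hx)), rfl⟩

variable [FiniteDimensional k K] [IsGalois k K]

theorem exists_isTwist_of {X : Over (Spec (CommRingCat.of k))}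
    (hX : ∀ Z : Set (GalTw.bcK K X).left, Z.Finite →
      ∃ V : (GalTw.bcK K X).left.Opens, IsAffineOpen V ∧ Z ⊆ V)
    (a : GpH1.OneCocycle (K ≃ₐ[k] K) (Aut (GalTw.bcK K X))) :
    ∃ Y : Over (Spec (CommRingCat.of k)),
      (IsAffine (GalTw.bcK K X).left → IsAffine Y.left) ∧ GalTw.IsTwist K X a Y := by
  obtain ⟨Y, π, θ, hθ, hθ₂, hθ₁, haffY⟩ := (twAct a).exists_descent hX
  haveI := hθ
  let Y' : Over (Spec (CommRingCat.of k)) := Over.mk π
  let θ' : (GalTw.bcK K X).left ⟶ (GalTw.bcK K Y').left := θ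
  haveI : IsIso θ' := hθ
  let φ : GalTw.bcK K Y' ≅ GalTw.bcK K X := (Over.isoMk (asIso θ') hθ₂).symm
  have hφ : φ.inv.left = θ' := rfl
  refine ⟨Y', haffY, φ, fun σ => ?_⟩
  have hc : (a σ).inv.left ≫ GalTw.galMap K σ X ≫ θ' = θ' ≫ GalTw.galMap K σ Y' := by
    apply pullback.hom_ext
    · simp only [Category.assoc, GalTw.galMap_fst]
      have := hθ₁ σ
      change ((a σ).inv.left ≫ GalTw.galMap K σ X) ≫ _ = _ at this
      rwa [Category.assoc] at this
    · simp only [Category.assoc, GalTw.galMap_snd]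
      rw [show θ' ≫ pullback.snd Y'.hom (SGA7.pt (K := k) K).hom = pullback.snd X.hom (ptK k K) from hθ₂,
        reassoc_of% (show θ' ≫ pullback.snd Y'.hom (SGA7.pt (K := k) K).hom = pullback.snd X.hom (ptK k K) from hθ₂),
        GalTw.galMap_snd, ← Category.assoc]
      exact congrArg (· ≫ GalTw.specMap K σ) (Over.w (a σ).inv)
  ext1; ext1
  have hc' : GalTw.galMap K σ X ≫ θ' = (a σ).hom.left ≫ θ' ≫ GalTw.galMap K σ Y' := by
    rw [← hc, Over.hom_left_inv_left_assoc]
  rw [GalTw.cocycle_apply_hom]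
  simp only [GalTw.twIso_inv, Over.comp_left, GalTw.twHom_left, hφ, Category.assoc]
  rw [reassoc_of% hc', GalTw.galMap_mul_assoc, mul_inv_cancel, GalTw.galMap_one, Category.id_comp]
  have : θ' ≫ φ.hom.left = 𝟙 _ := by rw [← hφ, ← Over.comp_left, φ.inv_hom_id]; rfl
  rw [this]
  exact Category.comp_id _

theorem exists_isTwist {X : Over (Spec (CommRingCat.of k))} (hX : RelProj.IsQuasiProjective X.hom)
    (a : GpH1.OneCocycle (K ≃ₐ[k] K) (Aut (GalTw.bcK K X))) :
    ∃ Y : Over (Spec (CommRingCat.of k)), GalTw.IsTwist K X a Y :=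
  (exists_isTwist_of (exists_affine_of_isQuasiProjective hX) a).imp fun _ h => h.2

theorem exists_desc_bc {Y : Over (Spec (CommRingCat.of k))} {Z : Scheme.{u}}
    (h : (GalTw.bcK K Y).left ⟶ Z) (hh : ∀ σ : K ≃ₐ[k] K, GalTw.galMap K σ Y ≫ h = h) :
    ∃ g : Y.left ⟶ Z, pullback.fst Y.hom (ptK k K) ≫ g = h := by
  haveI := etale_ptK (k := k) (K := K)
  haveI := surjective_ptK (k := k) (K := K)
  haveI := isFinite_ptK (k := k) (K := K)
  refine Act.exists_desc (galAct (K := K) Y) (pullback.fst Y.hom (ptK k K)) (fun {T} a b hab => ?_) h hh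
  let D := galAct (k := k) (K := K) Y
  refine ⟨pullback.lift a (b ≫ D.q) ?_, pullback.lift_fst _ _ _, ?_⟩
  · have h1 : D.q ≫ ptK k K = pullback.fst Y.hom (ptK k K) ≫ Y.hom := pullback.condition.symm
    show a ≫ D.q ≫ ptK k K = (b ≫ D.q) ≫ ptK k K
    rw [Category.assoc, h1, reassoc_of% hab]
  · have h2 := D.s_comp_eq (pullback.fst Y.hom (ptK k K)) fun σ => GalTw.galMap_fst K σ Y
    apply pullback.hom_ext
    · show (_ ≫ D.t) ≫ _ = _
      rw [Category.assoc, ← h2, pullback.lift_fst_assoc]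
      exact hab
    · show (_ ≫ D.t) ≫ D.q = b ≫ D.q
      rw [Category.assoc, D.t_q, pullback.lift_snd]

theorem epi_fst (Y : Over (Spec (CommRingCat.of k))) : Epi (pullback.fst Y.hom (ptK k K)) := by
  haveI := etale_ptK (k := k) (K := K)
  haveI := surjective_ptK (k := k) (K := K)
  exact Flat.epi_of_flat_of_surjective _

theorem nonempty_iso_iff {X Y Y' : Over (Spec (CommRingCat.of k))}
    (a b : GpH1.OneCocycle (K ≃ₐ[k] K) (Aut (GalTw.bcK K X)))
    (hY : GalTw.IsTwist K X a Y) (hY' : GalTw.IsTwist K X b Y') :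
    Nonempty (Y ≅ Y') ↔ GpH1.Cohomologous a b := by
  obtain ⟨φ, hφ⟩ := hY
  obtain ⟨φ', hφ'⟩ := hY'
  constructor
  · rintro ⟨e⟩
    let E : GalTw.bcK K Y ≅ GalTw.bcK K Y' := (Over.pullback (ptK k K)).mapIso e
    have hE : ∀ σ, GalTw.twIso σ E = E := fun σ => by
      have hnat : GalTw.galMap K σ Y ≫ E.hom.left = E.hom.left ≫ GalTw.galMap K σ Y' := by
        have e1 : E.hom.left ≫ pullback.fst Y'.hom (ptK k K) = pullback.fst Y.hom (ptK k K) ≫ e.hom.left :=
          pullback.lift_fst _ _ _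
        have e2 : E.hom.left ≫ pullback.snd Y'.hom (ptK k K) = pullback.snd Y.hom (ptK k K) :=
          pullback.lift_snd _ _ _
        apply pullback.hom_ext
        · rw [Category.assoc, Category.assoc, GalTw.galMap_fst, e1, GalTw.galMap_fst_assoc]
        · rw [Category.assoc, Category.assoc, GalTw.galMap_snd, e2, GalTw.galMap_snd, reassoc_of% e2]
      ext1; ext1
      rw [GalTw.twIso_hom, GalTw.twHom_left, reassoc_of% hnat, GalTw.galMap_mul, mul_inv_cancel,
        GalTw.galMap_one]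
      exact Category.comp_id _
    refine ⟨φ.symm ≪≫ E ≪≫ φ', fun σ => ?_⟩
    rw [← hφ, ← hφ']
    change (GalTw.twIso σ φ).symm ≪≫ φ = GalTw.twIso σ (φ.symm ≪≫ E ≪≫ φ') ≪≫
      ((GalTw.twIso σ φ').symm ≪≫ φ') ≪≫ (φ.symm ≪≫ E ≪≫ φ').symm
    rw [GalTw.twIso_trans, GalTw.twIso_trans, hE]
    have : GalTw.twIso σ φ.symm = (GalTw.twIso σ φ).symm := rfl
    rw [this]
    ext1
    simp
  · rintro ⟨c, hc⟩
    let Φ : GalTw.bcK K Y ≅ GalTw.bcK K Y' := φ ≪≫ c ≪≫ φ'.symm
    have hΦ : ∀ σ, GalTw.twIso σ Φ = Φ := fun σ => by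
      have h := hc σ
      rw [← hφ, ← hφ'] at h
      change (GalTw.twIso σ φ).symm ≪≫ φ = GalTw.twIso σ c ≪≫ ((GalTw.twIso σ φ').symm ≪≫ φ') ≪≫ c.symm at h
      ext1
      have h' := congrArg Iso.hom h
      simp only [Iso.trans_hom, Iso.symm_hom] at h'
      rw [Iso.inv_comp_eq] at h'
      simp only [Φ, GalTw.twIso_trans, Iso.trans_hom, Iso.symm_hom]
      change _ ≫ _ ≫ (GalTw.twIso σ φ').inv = _
      rw [h']
      simp only [Category.assoc, Iso.inv_hom_id_assoc, Iso.hom_inv_id, Category.comp_id, GalTw.twIso_hom]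
    have hnat : ∀ σ, GalTw.galMap K σ Y ≫ Φ.hom.left = Φ.hom.left ≫ GalTw.galMap K σ Y' := fun σ => by
      have := congrArg (fun f : GalTw.bcK K Y ≅ GalTw.bcK K Y' => f.hom.left) (hΦ σ)
      simp only [GalTw.twIso_hom, GalTw.twHom_left] at this
      conv_rhs => rw [← this]
      simp [Category.assoc]
    have hnat' : ∀ σ, GalTw.galMap K σ Y' ≫ Φ.inv.left = Φ.inv.left ≫ GalTw.galMap K σ Y := fun σ => by
      rw [← cancel_mono Φ.hom.left, Category.assoc, Category.assoc, hnat]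
      simp
    obtain ⟨g, hg⟩ := exists_desc_bc (Φ.hom.left ≫ pullback.fst Y'.hom (ptK k K)) fun σ => by
      rw [reassoc_of% hnat σ, GalTw.galMap_fst]
    obtain ⟨g', hg'⟩ := exists_desc_bc (Φ.inv.left ≫ pullback.fst Y.hom (ptK k K)) fun σ => by
      rw [reassoc_of% hnat' σ, GalTw.galMap_fst]
    haveI := epi_fst (K := K) Y
    haveI := epi_fst (K := K) Y'
    refine ⟨Over.isoMk ⟨g, g', ?_, ?_⟩ ?_⟩
    · rw [← cancel_epi (pullback.fst Y.hom (ptK k K)), reassoc_of% hg, hg', Over.hom_left_inv_left_assoc,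
        Category.comp_id]
    · rw [← cancel_epi (pullback.fst Y'.hom (ptK k K)), reassoc_of% hg', hg, Over.inv_left_hom_left_assoc,
        Category.comp_id]
    · show g ≫ Y'.hom = Y.hom
      rw [← cancel_epi (pullback.fst Y.hom (ptK k K)), reassoc_of% hg, pullback.condition, pullback.condition,
        ← Category.assoc]
      exact congrArg (· ≫ ptK k K) (Over.w Φ.hom)

end GalTwLib
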