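import Groth.Agent.GalTwLib.Act
import Groth.Agent.GrpdLib.Quot.Props
import Mathlib.AlgebraicGeometry.Morphisms.Descent
import Mathlib.AlgebraicGeometry.Sites.Fpqc

/-!
# Galois descent: quotient of a semilinear action, and descent of invariant morphisms
-/

set_option autoImplicit false
set_option linter.style.haveILetI false
universe u

open CategoryTheory CategoryTheory.Limits AlgebraicGeometry

noncomputable section

namespace GalTwLib

variable {k K : Type u} [Field k] [Field K] [Algebra k K] [FiniteDimensional k K] [IsGalois k K]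

namespace Act

variable (D : Act k K)

/-- Composition: `(α, β) ↦ α ∘ β` for `α s = β t`. -/
def comp' : pullback D.s D.t ⟶ D.R :=
  pullback.lift (pullback.snd D.s D.t ≫ D.s) (pullback.fst D.s D.t ≫ D.z) (by
    rw [Category.assoc, Category.assoc, ← D.t_pU, ← pullback.condition_assoc]
    exact congrArg (pullback.fst D.s D.t ≫ ·) pullback.condition)

theorem comp'_s : D.comp' ≫ D.s = pullback.snd D.s D.t ≫ D.s := pullback.lift_fst _ _ _

theorem comp'_t : D.comp' ≫ D.t = pullback.fst D.s D.t ≫ D.t := by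
  refine D.hom_ext_of (pullback.fst D.s D.t) fun {W} w σ a ha => ?_
  refine D.hom_ext_of (w ≫ pullback.snd D.s D.t) fun {W'} w' τ b hb => ?_
  have hA : w' ≫ w ≫ pullback.fst D.s D.t = (w' ≫ a) ≫ D.sec σ := by rw [ha, Category.assoc]
  have hab : b ≫ D.ψ τ = w' ≫ a := by
    have := congrArg (fun f => w' ≫ w ≫ f) (pullback.condition (f := D.s) (g := D.t))
    simp only [← Category.assoc] at this hA hb
    rw [hA, hb] at this
    simpa only [Category.assoc, sec_s, sec_t, Category.comp_id] using this.symm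
  have hX : w' ≫ w ≫ D.comp' = b ≫ D.sec (τ * σ) := by
    apply pullback.hom_ext
    · show _ ≫ D.s = _ ≫ D.s
      rw [Category.assoc, Category.assoc, comp'_s, ← Category.assoc w, ← Category.assoc w', hb, Category.assoc,
        Category.assoc, sec_s, sec_s]
    · show _ ≫ D.z = _ ≫ D.z
      have h2 : (w' ≫ w ≫ D.comp') ≫ D.z = w' ≫ w ≫ pullback.fst D.s D.t ≫ D.z := by
        simp only [Category.assoc]
        exact congrArg (fun f => w' ≫ w ≫ f) (pullback.lift_snd _ _ _)
      rw [h2, reassoc_of% hA, Category.assoc, sec_z, sec_z, GalTw.specMap_mul, ← D.ψ_q_assoc, reassoc_of% hab]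
  rw [reassoc_of% hX, sec_t, ← D.ψ_mul, reassoc_of% hab, reassoc_of% hA, sec_t]

/-- Inversion. -/
def inv' : D.R ⟶ D.R :=
  pullback.lift D.t (D.s ≫ D.q) (by rw [D.t_pU, Category.assoc])

theorem inv'_s : D.inv' ≫ D.s = D.t := pullback.lift_fst _ _ _

theorem inv'_t : D.inv' ≫ D.t = D.s := by
  refine D.hom_ext fun σ => ?_
  have h : D.sec σ ≫ D.inv' = D.ψ σ ≫ D.sec σ⁻¹ := by
    apply pullback.hom_ext
    · show _ ≫ D.s = _ ≫ D.s
      rw [Category.assoc, inv'_s, sec_t, Category.assoc, sec_s, Category.comp_id]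
    · show _ ≫ D.z = _ ≫ D.z
      have h2 : (D.sec σ ≫ D.inv') ≫ D.z = D.sec σ ≫ D.s ≫ D.q := by
        rw [Category.assoc]
        exact congrArg (D.sec σ ≫ ·) (pullback.lift_snd _ _ _)
      rw [h2, sec_s_assoc, Category.assoc, sec_z, ψ_q_assoc, ← GalTw.specMap_mul, mul_inv_cancel,
        GalTw.specMap_one, Category.comp_id]
  rw [reassoc_of% h, sec_t, ψ_mul, mul_inv_cancel, ψ_one, sec_s]

/-- The action groupoid. -/
abbrev grpd : Grpd.GroupoidScheme (Spec (CommRingCat.of k)) where
  U := D.U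
  R := D.R
  pU := D.pU
  pR := D.s ≫ D.pU
  s := D.s
  t := D.t
  e := D.sec 1
  i := D.inv'
  c := D.comp'
  s_over := rfl
  t_over := D.t_pU
  comp_s α β h := by rw [Category.assoc, comp'_s, pullback.lift_snd_assoc]
  comp_t α β h := by rw [Category.assoc, comp'_t, pullback.lift_fst_assoc]
  assoc α β γ h₁ h₂ := by
    apply D.jointly_mono
    · simp only [Category.assoc, comp'_s, pullback.lift_snd_assoc]
    · simp only [Category.assoc, comp'_t, pullback.lift_fst_assoc]
  e_s := D.sec_s 1
  e_t := (D.sec_t 1).trans D.ψ_one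
  comp_e α := by
    apply D.jointly_mono
    · simp only [Category.assoc, comp'_s, pullback.lift_snd_assoc, sec_s, Category.comp_id]
    · simp only [Category.assoc, comp'_t, pullback.lift_fst_assoc]
  e_comp α := by
    apply D.jointly_mono
    · simp only [Category.assoc, comp'_s, pullback.lift_snd_assoc]
    · simp only [Category.assoc, comp'_t, pullback.lift_fst_assoc, sec_t, ψ_one, Category.comp_id]
  i_s := D.inv'_s
  i_t := D.inv'_t
  comp_i α := by
    apply D.jointly_mono
    · simp only [Category.assoc, comp'_s, pullback.lift_snd_assoc, inv'_s, sec_s, Category.comp_id]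
    · simp only [Category.assoc, comp'_t, pullback.lift_fst_assoc, sec_t, ψ_one, Category.comp_id]
  i_comp α := by
    apply D.jointly_mono
    · simp only [Category.assoc, comp'_s, pullback.lift_snd_assoc, sec_s, Category.comp_id]
    · simp only [Category.assoc, comp'_t, pullback.lift_fst_assoc, inv'_t, sec_t, ψ_one, Category.comp_id]

theorem mono_j : Mono D.grpd.j := by
  refine ⟨fun {T} a b h => D.jointly_mono ?_ ?_⟩
  · have e : D.grpd.j ≫ pullback.snd D.grpd.pU D.grpd.pU = D.s := pullback.lift_snd _ _ _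
    rw [← e, ← Category.assoc, ← Category.assoc, h]
  · have e : D.grpd.j ≫ pullback.fst D.grpd.pU D.grpd.pU = D.t := pullback.lift_fst _ _ _
    rw [← e, ← Category.assoc, ← Category.assoc, h]

/-- **Galois descent.** A semilinear action all of whose finite subsets lie in affine opens comes from a scheme over
`k`: there is `π : Y ⟶ Spec k` and an equivariant isomorphism `U ≅ Y ×_k Spec K`. -/
theorem exists_descent (hfin : ∀ Z : Set D.U, Z.Finite → ∃ V : D.U.Opens, IsAffineOpen V ∧ Z ⊆ V) :
    ∃ (Y : Scheme.{u}) (π : Y ⟶ Spec (CommRingCat.of k)) (θ : D.U ⟶ pullback π (ptK k K)),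
      IsIso θ ∧ θ ≫ pullback.snd π (ptK k K) = D.q ∧
      (∀ σ : K ≃ₐ[k] K, D.ψ σ ≫ θ ≫ pullback.fst π (ptK k K) = θ ≫ pullback.fst π (ptK k K)) ∧
      (IsAffine D.U → IsAffine Y) := by
  haveI := D.etale_s
  haveI := D.isFinite_s
  haveI : IsFinite D.grpd.s := D.isFinite_s
  haveI : Flat D.grpd.s := inferInstanceAs (Flat D.s)
  haveI : LocallyOfFinitePresentation D.grpd.s := inferInstanceAs (LocallyOfFinitePresentation D.s)
  obtain ⟨Y, p, hp, -, -, -, hmono, haffY⟩ := GrpdLib.exists_quotient D.grpd fun x => by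
    obtain ⟨V, hV, hZ⟩ := hfin (D.t '' (D.s ⁻¹' {x}))
      (((D.s).finite_preimage_singleton x).image _)
    refine ⟨V, hV, ?_⟩
    rintro y ⟨r, hr, rfl⟩
    exact hZ ⟨r, hr, rfl⟩
  obtain ⟨hpb, hpfin, hpflat, -⟩ := hmono D.mono_j
  haveI := hpfin; haveI := hpflat
  haveI : Surjective p := ⟨hp.surj⟩
  have hpb' : IsPullback D.t D.s p p := hpb
  obtain ⟨π, hπ, -⟩ := hp.existsUnique_desc D.grpd D.pU D.t_pU
  have hπ' : p ≫ π = D.pU := hπ
  let θ : D.U ⟶ pullback π (ptK k K) := pullback.lift p D.q hπ'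
  let g : D.R ⟶ pullback π (ptK k K) := pullback.lift (D.s ≫ p) D.z (by
    rw [Category.assoc, hπ']; exact pullback.condition)
  have hθg : D.t ≫ θ = g := pullback.hom_ext
    (by rw [Category.assoc, pullback.lift_fst, pullback.lift_fst]; exact hpb'.w)
    (by rw [Category.assoc, pullback.lift_snd, pullback.lift_snd, t_q])
  have sqg : IsPullback g D.s (pullback.fst π (ptK k K)) p := by
    refine IsPullback.of_right (t := IsPullback.of_hasPullback π (ptK k K) |>.flip) ?_ (pullback.lift_fst _ _ _)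
    rw [show g ≫ pullback.snd π (ptK k K) = D.z from pullback.lift_snd _ _ _, hπ']
    exact (IsPullback.of_hasPullback D.pU (ptK k K)).flip
  haveI : Flat g := MorphismProperty.of_isPullback (P := @Flat) sqg.flip inferInstance
  haveI : Surjective g := MorphismProperty.of_isPullback (P := @Surjective) sqg.flip inferInstance
  haveI : QuasiCompact g := MorphismProperty.of_isPullback (P := @QuasiCompact) sqg.flip inferInstance
  have sqθ : IsPullback D.t (𝟙 D.R) θ g := by
    refine IsPullback.of_isLimit' ⟨by rw [hθg, Category.id_comp]⟩ (PullbackCone.IsLimit.mk _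
      (fun c => c.snd) (fun c => ?_) (fun c => Category.comp_id _) fun c m h₁ h₂ => ?_)
    · have h1 := congrArg (· ≫ pullback.fst π (ptK k K)) c.condition
      have h2 := congrArg (· ≫ pullback.snd π (ptK k K)) c.condition
      simp only [θ, g, Category.assoc, pullback.lift_fst, pullback.lift_snd] at h1 h2
      rw [← Category.assoc c.snd] at h1
      obtain ⟨r, hr₁, hr₂⟩ : ∃ r, r ≫ D.t = c.fst ∧ r ≫ D.s = c.snd ≫ D.s :=
        ⟨_, hpb'.lift_fst _ _ h1, hpb'.lift_snd _ _ h1⟩
      have : r = c.snd := pullback.hom_ext hr₂ (show r ≫ D.z = c.snd ≫ D.z by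
        rw [← D.t_q, reassoc_of% hr₁, h2, D.t_q])
      rw [← this, hr₁]
    · simpa using h₂
  have hθ : IsIso θ := by
    have := MorphismProperty.of_isPullback_of_descendsAlong (P := MorphismProperty.isomorphisms Scheme.{u})
      (Q := @Surjective ⊓ @Flat ⊓ @QuasiCompact) sqθ.flip ⟨⟨inferInstance, inferInstance⟩, inferInstance⟩
      (inferInstanceAs (IsIso (𝟙 D.R)))
    exact this
  refine ⟨Y, π, θ, hθ, pullback.lift_snd _ _ _, fun σ => ?_, haffY⟩
  rw [pullback.lift_fst, ← D.sec_t σ, Category.assoc, hpb'.w, sec_s_assoc]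

/-- Invariant morphisms descend along the projection. -/
theorem exists_desc {Y : Scheme.{u}} (f : D.U ⟶ Y) [Flat f] [Surjective f] [QuasiCompact f]
    (hf : ∀ {T : Scheme.{u}} (a b : T ⟶ D.U), a ≫ f = b ≫ f → ∃ r : T ⟶ D.R, r ≫ D.s = a ∧ r ≫ D.t = b)
    {Z : Scheme.{u}} (h : D.U ⟶ Z) (hh : ∀ σ, D.ψ σ ≫ h = h) : ∃ g : Y ⟶ Z, f ≫ g = h :=
  ⟨EffectiveEpi.desc f h fun a b hab => by
    obtain ⟨r, rfl, rfl⟩ := hf a b hab
    rw [Category.assoc, Category.assoc, D.s_comp_eq h hh], EffectiveEpi.fac _ _ _⟩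

end Act

end GalTwLib
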